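import Mathlib.GroupTheory.PGroup
import Mathlib.GroupTheory.OrderOfElement
import Mathlib.SetTheory.Cardinal.Finite

/-!
# Interface for the elimination of the simple groups with Sylow 5-subgroup of order `5 ^ 8`, `5 ^ 9` (helper777)

`Row5 K`: if the 5-part of `|K|` is `5 ^ 8` or `5 ^ 9` then `K` has an abelian 5-subgroup of order at least `5 ^ 5`.
-/

set_option autoImplicit false

namespace Cfsg.Agent.H777.Elim5

/-- the 5-part of the order of `K` is `5 ^ n` -/
def Vn5 (n : ℕ) (K : Type*) [Group K] : Prop := 5 ^ n ∣ Nat.card K ∧ ¬ 5 ^ (n + 1) ∣ Nat.card K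

/-- a large abelian 5-subgroup -/
def Big5 (K : Type*) [Group K] : Prop :=
  ∃ A : Subgroup K, IsPGroup 5 A ∧ (∀ x ∈ A, ∀ y ∈ A, x * y = y * x) ∧ 5 ^ 5 ≤ Nat.card A

/-- the row to be proved -/
def Row5 (K : Type*) [Group K] : Prop := (Vn5 8 K ∨ Vn5 9 K) → Big5 K

theorem Big5.congr {K L : Type*} [Group K] [Group L] (e : K ≃* L) (h : Big5 K) : Big5 L := by
  obtain ⟨A, hA, hab, hc⟩ := h
  refine ⟨A.map e.toMonoidHom, hA.map _, ?_, ?_⟩
  · rintro _ ⟨x, hx, rfl⟩ _ ⟨y, hy, rfl⟩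
    rw [← map_mul, ← map_mul, hab x hx y hy]
  · rw [← Nat.card_congr (A.equivMapOfInjective e.toMonoidHom e.injective).toEquiv]
    exact hc

theorem Vn5.congr {n : ℕ} {K L : Type*} [Group K] [Group L] (e : K ≃* L) (h : Vn5 n K) : Vn5 n L := by
  unfold Vn5 at h ⊢
  rwa [← Nat.card_congr e.toEquiv]

theorem Row5.congr {K L : Type*} [Group K] [Group L] (e : K ≃* L) (h : Row5 K) : Row5 L := fun hV =>
  (h (hV.imp (Vn5.congr e.symm) (Vn5.congr e.symm))).congr e

/-- `Big5` from a homomorphism injective on an abelian 5-subgroup -/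
theorem Big5.of_hom {K L : Type*} [Group K] [Group L] {A : Subgroup L} (f : L →* K) (hA : IsPGroup 5 A)
    (hab : ∀ x ∈ A, ∀ y ∈ A, x * y = y * x) (hc : 5 ^ 5 ≤ Nat.card A) (hf : ∀ x ∈ A, f x = 1 → x = 1) : Big5 K := by
  refine ⟨A.map f, hA.map _, ?_, ?_⟩
  · rintro _ ⟨x, hx, rfl⟩ _ ⟨y, hy, rfl⟩
    rw [← map_mul, ← map_mul, hab x hx y hy]
  · have hinj : Function.Injective (f.comp A.subtype) := by
      rw [injective_iff_map_eq_one]
      intro x hx
      exact Subtype.ext (hf x x.2 hx)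
    have h2 : Nat.card A = Nat.card (f.comp A.subtype).range :=
      Nat.card_congr (MonoidHom.ofInjective hinj).toEquiv
    have h3 : (f.comp A.subtype).range = A.map f := by
      rw [MonoidHom.range_comp, Subgroup.range_subtype]
    rw [h2, h3] at hc
    exact hc

end Cfsg.Agent.H777.Elim5
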