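import Mathlib.Data.ZMod.Basic
import Mathlib.Data.Matrix.Mul
import Mathlib.Data.Matrix.Reflection
import Mathlib.LinearAlgebra.Matrix.Notation
import Mathlib.Tactic.Ring
import Mathlib.Tactic.LinearCombination
import Mathlib.Tactic.FinCases
import Mathlib.GroupTheory.PGroup
import Mathlib.GroupTheory.OrderOfElement
import Mathlib.Algebra.Group.MinimalAxioms

/-!
# The group `PG` of order `5 ^ 9` (helper777)

`PG = 5^{1+6} : <a, b>`: the vectors `V6` over `F_5` with the form `om`, the matrices `aM`, `bM` (commuting, of order 5,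
isometries of `om`). It is isomorphic to a Sylow 5-subgroup of the Monster. `PData G`: elements of a group `G` satisfying
the relations of `PG`.
-/

set_option autoImplicit false

namespace Cfsg.Agent.H777.M5

open Matrix

/-- vectors -/
abbrev V6 := Fin 6 → ZMod 5

/-- the symplectic form -/
def om (u v : V6) : ZMod 5 := u 0 * v 5 - u 1 * v 4 + u 2 * v 3 - u 3 * v 2 + u 4 * v 1 - u 5 * v 0

/-- the matrix of `a` -/
def aM : Matrix (Fin 6) (Fin 6) (ZMod 5) :=
  !![1, 0, 4, 4, 0, 2;
     0, 1, 0, 0, 4, 0;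
     0, 0, 1, 0, 0, 4;
     0, 0, 2, 1, 0, 4;
     0, 0, 0, 0, 1, 0;
     0, 0, 0, 0, 0, 1]

/-- the matrix of `b` -/
def bM : Matrix (Fin 6) (Fin 6) (ZMod 5) :=
  !![1, 1, 3, 0, 0, 0;
     0, 1, 1, 0, 0, 0;
     0, 0, 1, 0, 0, 0;
     0, 0, 0, 1, 1, 3;
     0, 0, 0, 0, 1, 1;
     0, 0, 0, 0, 0, 1]

theorem aM_bM : aM * bM = bM * aM := by decide +kernel
theorem aM_five : aM ^ 5 = 1 := by decide +kernel
theorem bM_five : bM ^ 5 = 1 := by decide +kernel

theorem om_add_left (u u' v : V6) : om (u + u') v = om u v + om u' v := by simp only [om, Pi.add_apply]; ring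
theorem om_add_right (u v v' : V6) : om u (v + v') = om u v + om u v' := by simp only [om, Pi.add_apply]; ring
theorem om_swap (u v : V6) : om v u = -om u v := by simp only [om]; ring
theorem om_self (u : V6) : om u u = 0 := by simp only [om]; ring
theorem om_zero_left (v : V6) : om 0 v = 0 := by simp [om]
theorem om_zero_right (v : V6) : om v 0 = 0 := by simp [om]
theorem om_neg_left (u v : V6) : om (-u) v = -om u v := by simp only [om, Pi.neg_apply]; ring
theorem om_neg_right (u v : V6) : om u (-v) = -om u v := by simp only [om, Pi.neg_apply]; ring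
theorem om_smul_left (c : ZMod 5) (u v : V6) : om (c • u) v = c * om u v := by
  simp only [om, Pi.smul_apply, smul_eq_mul]; ring
theorem om_smul_right (c : ZMod 5) (u v : V6) : om u (c • v) = c * om u v := by
  simp only [om, Pi.smul_apply, smul_eq_mul]; ring

theorem om_aM (u v : V6) : om (aM *ᵥ u) (aM *ᵥ v) = om u v := by
  simp only [om, aM, mulVec, dotProduct, Fin.sum_univ_six, of_apply, cons_val', cons_val_zero, cons_val_one, cons_val,
    empty_val', cons_val_fin_one]
  ring

theorem om_bM (u v : V6) : om (bM *ᵥ u) (bM *ᵥ v) = om u v := by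
  have h5 : (5 : ZMod 5) = 0 := by decide
  simp only [om, bM, mulVec, dotProduct, Fin.sum_univ_six, of_apply, cons_val', cons_val_zero, cons_val_one, cons_val,
    empty_val', cons_val_fin_one]
  linear_combination (u 2 * v 5 - u 5 * v 2) * h5

theorem om_aM_pow (n : ℕ) (u v : V6) : om ((aM ^ n) *ᵥ u) ((aM ^ n) *ᵥ v) = om u v := by
  induction n with
  | zero => simp
  | succ n ih => rw [pow_succ', ← mulVec_mulVec, ← mulVec_mulVec, om_aM, ih]

theorem om_bM_pow (n : ℕ) (u v : V6) : om ((bM ^ n) *ᵥ u) ((bM ^ n) *ᵥ v) = om u v := by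
  induction n with
  | zero => simp
  | succ n ih => rw [pow_succ', ← mulVec_mulVec, ← mulVec_mulVec, om_bM, ih]

/-- the matrix of `a ^ i * b ^ j` -/
def mat (i j : ZMod 5) : Matrix (Fin 6) (Fin 6) (ZMod 5) := aM ^ i.val * bM ^ j.val

theorem pow_val_add {M : Matrix (Fin 6) (Fin 6) (ZMod 5)} (h : M ^ 5 = 1) (i j : ZMod 5) :
    M ^ (i + j).val = M ^ i.val * M ^ j.val := by
  rw [ZMod.val_add, ← pow_add]
  conv_rhs => rw [← Nat.div_add_mod (i.val + j.val) 5, pow_add, pow_mul, h, one_pow, one_mul]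

theorem comm_pow (m n : ℕ) : aM ^ m * bM ^ n = bM ^ n * aM ^ m := (show Commute aM bM from aM_bM).pow_pow m n

theorem mat_zero : mat 0 0 = 1 := by rw [mat, ZMod.val_zero, pow_zero, pow_zero, one_mul]

theorem mat_add (i j i' j' : ZMod 5) : mat (i + i') (j + j') = mat i j * mat i' j' := by
  unfold mat
  rw [pow_val_add aM_five, pow_val_add bM_five, mul_assoc, mul_assoc, ← mul_assoc (aM ^ i'.val), comm_pow, mul_assoc]

/-- the action of `a ^ i * b ^ j` -/
def act (i j : ZMod 5) (v : V6) : V6 := mat i j *ᵥ v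

theorem act_add (i j : ZMod 5) (u v : V6) : act i j (u + v) = act i j u + act i j v := mulVec_add _ _ _
theorem act_zero (i j : ZMod 5) : act i j 0 = 0 := mulVec_zero _
theorem act_neg (i j : ZMod 5) (v : V6) : act i j (-v) = -act i j v := mulVec_neg _ _
theorem act_one (v : V6) : act 0 0 v = v := by rw [act, mat_zero, one_mulVec]
theorem act_act (i j i' j' : ZMod 5) (v : V6) : act i j (act i' j' v) = act (i + i') (j + j') v := by
  rw [act, act, act, mat_add, mulVec_mulVec]
theorem om_act (i j : ZMod 5) (u v : V6) : om (act i j u) (act i j v) = om u v := by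
  rw [act, act, mat, ← mulVec_mulVec, ← mulVec_mulVec, om_aM_pow, om_bM_pow]

/-- the group `PG` of order `5 ^ 9`: `(v, c, i, j)` stands for `w(v) x ^ c a ^ i b ^ j` -/
@[ext] structure PG where
  v : V6
  c : ZMod 5
  i : ZMod 5
  j : ZMod 5
  deriving DecidableEq

namespace PG

instance onePG : One PG := ⟨⟨0, 0, 0, 0⟩⟩
instance mulPG : Mul PG := ⟨fun x y =>
  ⟨x.v + act x.i x.j y.v, x.c + y.c + 3 * om x.v (act x.i x.j y.v), x.i + y.i, x.j + y.j⟩⟩
instance invPG : Inv PG := ⟨fun x => ⟨-act (-x.i) (-x.j) x.v, -x.c, -x.i, -x.j⟩⟩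

@[simp] theorem one_v : (1 : PG).v = 0 := rfl
@[simp] theorem one_c : (1 : PG).c = 0 := rfl
@[simp] theorem one_i : (1 : PG).i = 0 := rfl
@[simp] theorem one_j : (1 : PG).j = 0 := rfl
@[simp] theorem mul_v (x y : PG) : (x * y).v = x.v + act x.i x.j y.v := rfl
@[simp] theorem mul_c (x y : PG) : (x * y).c = x.c + y.c + 3 * om x.v (act x.i x.j y.v) := rfl
@[simp] theorem mul_i (x y : PG) : (x * y).i = x.i + y.i := rfl
@[simp] theorem mul_j (x y : PG) : (x * y).j = x.j + y.j := rfl
@[simp] theorem inv_v (x : PG) : (x⁻¹).v = -act (-x.i) (-x.j) x.v := rfl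
@[simp] theorem inv_c (x : PG) : (x⁻¹).c = -x.c := rfl
@[simp] theorem inv_i (x : PG) : (x⁻¹).i = -x.i := rfl
@[simp] theorem inv_j (x : PG) : (x⁻¹).j = -x.j := rfl

instance groupPG : Group PG := Group.ofLeftAxioms
  (by
    intro x y z
    ext1
    · simp only [mul_v, mul_i, mul_j, act_add, act_act, add_assoc]
    · simp only [mul_c, mul_v, mul_i, mul_j, act_add, act_act, om_add_left, om_add_right]
      rw [← act_act, om_act]
      ring
    · simp only [mul_i, add_assoc]
    · simp only [mul_j, add_assoc])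
  (by intro x; ext1 <;> simp [act_one, om_zero_left])
  (by
    intro x
    ext1
    · simp
    · simp [om_neg_left, om_self]
    · simp
    · simp)

/-- tuples -/
def equivProd : PG ≃ V6 × ZMod 5 × ZMod 5 × ZMod 5 where
  toFun x := (x.v, x.c, x.i, x.j)
  invFun p := ⟨p.1, p.2.1, p.2.2.1, p.2.2.2⟩
  left_inv _ := rfl
  right_inv _ := rfl

instance fintypePG : Fintype PG := Fintype.ofEquiv _ equivProd.symm

theorem card_PG : Nat.card PG = 5 ^ 9 := by
  rw [Nat.card_congr equivProd, Nat.card_prod, Nat.card_prod, Nat.card_prod, Nat.card_pi]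
  simp

end PG

/-- Elements of a group `G` satisfying the relations of `PG`. -/
structure PData (G : Type*) [Group G] where
  w : V6 → G
  x : G
  a : G
  b : G
  x_ne : x ≠ 1
  x_five : x ^ 5 = 1
  a_five : a ^ 5 = 1
  b_five : b ^ 5 = 1
  a_b : a * b = b * a
  x_w : ∀ v, x * w v = w v * x
  x_a : x * a = a * x
  x_b : x * b = b * x
  w_mul : ∀ u v, w u * w v = w (u + v) * x ^ (3 * om u v).val
  a_w : ∀ v, a * w v * a⁻¹ = w (aM *ᵥ v)
  b_w : ∀ v, b * w v * b⁻¹ = w (bM *ᵥ v)

end Cfsg.Agent.H777.M5
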