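import Mathlib.Algebra.Module.Equiv.Basic
import Mathlib.GroupTheory.Subgroup.Centralizer
import Mathlib.GroupTheory.Sylow
import Cfsg.Agent.H777.M5.PGDef

/-!
# The centralizer of an element `x` of order 5 of the Monster (5B), abstractly (helper777)

* `Sit G` : the situation: `x` of order 5, involutions `z`, `u`, `C(x) = N (C(x) ∩ C(z))`, `(C(x) ∩ C(z)) / ⟨x, z⟩ ≅ J₂`,
  a subgroup `S` of order `5 ^ 4` of `C(x) ∩ C(u)`.
* `WOut S` : the normal subgroup `5^{1+6}` of `C(x)` in coordinates, the action `rho` of `C(x) ∩ C(z)` on it.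
* `RelH S` : elements of `C(x) ∩ C(z)` and relations.
-/

set_option autoImplicit false

namespace Cfsg.Agent.H777.M5

open Subgroup

/-- The situation in the Monster. -/
structure Sit (G : Type) [Group G] where
  x : G
  z : G
  u : G
  x_ord : orderOf x = 5
  z_sq : z * z = 1
  z_ne : z ≠ 1
  u_sq : u * u = 1
  xz : x * z = z * x
  xu : x * u = u * x
  uz : u * z = z * u
  /-- a normal subgroup of odd order of `C(x)` -/
  N : Subgroup G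
  N_le : N ≤ centralizer {x}
  N_odd : Odd (Nat.card N)
  N_conj : ∀ g ∈ centralizer {x}, ∀ n ∈ N, g * n * g⁻¹ ∈ N
  x_N : x ∈ N
  N_sup : ∀ g ∈ centralizer {x}, ∃ n ∈ N, ∃ h, h * x = x * h ∧ h * z = z * h ∧ g = n * h
  /-- the simple group `J₂` -/
  J : Type
  [grpJ : Group J]
  J_simple : IsSimpleGroup J
  J_card : Nat.card J = 604800
  f : ↥(centralizer {x} ⊓ centralizer {z}) →* J
  f_surj : Function.Surjective f
  f_ker : ∀ h : ↥(centralizer {x} ⊓ centralizer {z}), f h = 1 ↔ ∃ k : ℕ, (h : G) = x ^ k ∨ (h : G) = x ^ k * z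
  f_u : ∀ h : ↥(centralizer {x} ⊓ centralizer {z}), (h : G) = u → f h ≠ 1
  no125 : ∀ R : Subgroup G, R ≤ centralizer {x} → R ≤ centralizer {z} → R ≤ centralizer {u} → Nat.card R ≠ 125
  S : Subgroup G
  S_x : S ≤ centralizer {x}
  S_u : S ≤ centralizer {u}
  S_card : Nat.card S = 5 ^ 4
  S_center : ∀ y ∈ S, (∀ s ∈ S, y * s = s * y) → y ∈ zpowers x
  S_nab : ∃ s₁ ∈ S, ∃ s₂ ∈ S, s₁ * s₂ * s₁⁻¹ * s₂⁻¹ ∉ zpowers x
  S_max : ∀ R : Subgroup G, IsPGroup 5 R → R ≤ centralizer {x} → R ≤ centralizer {u} → Nat.card R ≤ 5 ^ 4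
  not_dvd : ¬ 5 ^ 10 ∣ Nat.card G

/-- The normal subgroup `5^{1+6}` of `C(x)` in coordinates. -/
structure WOut {G : Type} [Group G] (S : Sit G) where
  w : V6 → G
  om' : V6 → V6 → ZMod 5
  add_left : ∀ u u' v, om' (u + u') v = om' u v + om' u' v
  add_right : ∀ u v v', om' u (v + v') = om' u v + om' u v'
  alt : ∀ v, om' v v = 0
  nondeg : ∀ u, (∀ v, om' u v = 0) → u = 0
  w_mul : ∀ u v, w u * w v = w (u + v) * S.x ^ (3 * om' u v).val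
  w_x : ∀ v, w v * S.x = S.x * w v
  w_z : ∀ v, S.z * w v * S.z⁻¹ = w (-v)
  w_ne : ∀ v, w v ∈ zpowers S.x → v = 0
  w_N : ∀ v, w v ∈ S.N
  rho : G → (V6 ≃ₗ[ZMod 5] V6)
  rho_w : ∀ h, h * S.x = S.x * h → h * S.z = S.z * h → ∀ v, h * w v * h⁻¹ = w (rho h v)
  rho_om : ∀ h, h * S.x = S.x * h → h * S.z = S.z * h → ∀ u v, om' (rho h u) (rho h v) = om' u v
  rho_ker : ∀ h, h * S.x = S.x * h → h * S.z = S.z * h → (∀ v, rho h v = v) → h ∈ zpowers S.x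

/-- Elements of `C(x) ∩ C(z)` and relations. `j = c i c⁻¹`, `t = b b'³ b³ b'`. -/
structure RelH {G : Type} [Group G] (S : Sit G) where
  i : G
  c : G
  b : G
  b' : G
  a : G
  ix : i * S.x = S.x * i
  cx : c * S.x = S.x * c
  bx : b * S.x = S.x * b
  b'x : b' * S.x = S.x * b'
  ax : a * S.x = S.x * a
  iz : i * S.z = S.z * i
  cz : c * S.z = S.z * c
  bz : b * S.z = S.z * b
  b'z : b' * S.z = S.z * b'
  az : a * S.z = S.z * a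
  c3 : c ^ 3 = 1
  b5 : b ^ 5 = 1
  b'5 : b' ^ 5 = 1
  a5 : a ^ 5 = 1
  i2 : i * i = 1 ∨ i * i = S.z
  i_ne : i ≠ 1
  i_nez : i ≠ S.z
  ib : i * b = b * i
  ib' : i * b' = b' * i
  cb : c * b = b * c
  cb' : c * b' = b' * c
  cj : c * (c * i * c⁻¹) * c⁻¹ = i * (c * i * c⁻¹)
  ab : a * b = b * a
  ia : i * a * i⁻¹ = a⁻¹
  ja : (c * i * c⁻¹ * a) ^ 3 = 1 ∨ (c * i * c⁻¹ * a) ^ 3 = S.z
  ija : (i * (c * i * c⁻¹) * a) ^ 5 = 1 ∨ (i * (c * i * c⁻¹) * a) ^ 5 = S.z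
  t2 : (b * b' ^ 3 * b ^ 3 * b') * (b * b' ^ 3 * b ^ 3 * b') = 1
  tb : (b * b' ^ 3 * b ^ 3 * b') * b * (b * b' ^ 3 * b ^ 3 * b')⁻¹ = b⁻¹
  tb' : (b * b' ^ 3 * b ^ 3 * b') * b' * (b * b' ^ 3 * b ^ 3 * b')⁻¹ = b'⁻¹
  ta : (b * b' ^ 3 * b ^ 3 * b') * a = a * (b * b' ^ 3 * b ^ 3 * b')
  bb' : (b * b') ^ 3 = 1 ∨ (b * b') ^ 3 = S.z
  bb'2 : (b * b' ^ 2) ^ 2 = 1 ∨ (b * b' ^ 2) ^ 2 = S.z
  ab'15 : (a * b') ^ 15 = 1 ∨ (a * b') ^ 15 = S.z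
  b_ne : b ∉ zpowers S.x
  ab'_ne : a * b' * a⁻¹ * b'⁻¹ ∉ zpowers S.x

end Cfsg.Agent.H777.M5
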