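import Mathlib.GroupTheory.Subgroup.Centralizer
import Cfsg.Agent.H777.M5.PGDef

/-!
# The data for S5230 (helper777)

Matrices (in the basis of `PData`) of elements `i`, `j`, `b'`, `t` of `C(x) ∩ C(z)`, and of `r`, a product of them which
normalizes the Sylow 5-subgroup. `MX G`: the data extracted from the Monster.
-/

set_option autoImplicit false

namespace Cfsg.Agent.H777.M5

open Matrix

/-- the matrix of `i` -/
def iM : Matrix (Fin 6) (Fin 6) (ZMod 5) :=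
  !![2, 0, 0, 0, 0, 0;
     0, 2, 0, 0, 0, 0;
     0, 0, 2, 0, 0, 0;
     0, 0, 0, 3, 0, 0;
     0, 0, 0, 0, 3, 0;
     0, 0, 0, 0, 0, 3]

/-- the matrix of `j` -/
def jM : Matrix (Fin 6) (Fin 6) (ZMod 5) :=
  !![0, 0, 0, 4, 0, 0;
     0, 0, 0, 0, 4, 0;
     0, 0, 0, 0, 0, 4;
     1, 0, 0, 0, 0, 0;
     0, 1, 0, 0, 0, 0;
     0, 0, 1, 0, 0, 0]

/-- the matrix of `b'` -/
def bpM : Matrix (Fin 6) (Fin 6) (ZMod 5) :=
  !![1, 0, 0, 0, 0, 0;
     3, 1, 0, 0, 0, 0;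
     2, 3, 1, 0, 0, 0;
     0, 0, 0, 1, 0, 0;
     0, 0, 0, 3, 1, 0;
     0, 0, 0, 2, 3, 1]

/-- the matrix of `t = b * b' ^ 3 * b ^ 3 * b'` -/
def tM : Matrix (Fin 6) (Fin 6) (ZMod 5) :=
  !![4, 0, 0, 0, 0, 0;
     0, 1, 0, 0, 0, 0;
     0, 0, 4, 0, 0, 0;
     0, 0, 0, 4, 0, 0;
     0, 0, 0, 0, 1, 0;
     0, 0, 0, 0, 0, 4]

theorem tM_eq : tM = bM * bpM ^ 3 * bM ^ 3 * bpM := by decide +kernel

/-- the matrix of `r = j * b' * a * b' * b * a * b' * b * a * b'` -/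
def rM : Matrix (Fin 6) (Fin 6) (ZMod 5) := jM * bpM * aM * bpM * bM * aM * bpM * bM * aM * bpM

theorem rM_aM : rM * aM = aM ^ 3 * bM ^ 3 * rM := by decide +kernel
theorem rM_bM : rM * bM = aM * bM ^ 3 * rM := by decide +kernel

/-- The data extracted from the Monster. -/
structure MX (G : Type) [Group G] extends PData G where
  z : G
  i : G
  j : G
  b' : G
  t : G
  zx : z * x = x * z
  ix : i * x = x * i
  jx : j * x = x * j
  b'x : b' * x = x * b'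
  tx : t * x = x * t
  za : z * a = a * z
  zb : z * b = b * z
  zi : z * i = i * z
  zj : z * j = j * z
  zb' : z * b' = b' * z
  tz : t * z = z * t
  ta : t * a = a * t
  tb : t * b * t⁻¹ = b⁻¹
  z_w : ∀ v, z * w v * z⁻¹ = w (-v)
  i_w : ∀ v, i * w v * i⁻¹ = w (iM *ᵥ v)
  j_w : ∀ v, j * w v * j⁻¹ = w (jM *ᵥ v)
  b'_w : ∀ v, b' * w v * b'⁻¹ = w (bpM *ᵥ v)
  t_w : ∀ v, t * w v * t⁻¹ = w (tM *ᵥ v)
  /-- an element of `C(x) ∩ C(z)` centralizing `W` is a power of `x` -/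
  ker : ∀ h, h * x = x * h → h * z = z * h → (∀ v, h * w v * h⁻¹ = w v) → h ∈ Subgroup.zpowers x
  /-- `W` is normal in `C(x)` -/
  normal : ∀ g, g * x = x * g → ∀ v, ∃ (v' : V6) (c : ℕ), g * w v * g⁻¹ = w v' * x ^ c
  /-- `a` is conjugate to a power of `x` -/
  a_conj : ∃ (g : G) (n : ℕ), g * a * g⁻¹ = x ^ n
  /-- the centralizers of the elements of order 5 commuting with `t` -/
  big : ∀ y : G, orderOf y = 5 → y * t = t * y → 5 ^ 7 ∣ Nat.card ↥(Subgroup.centralizer ({y} : Set G))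
  not_dvd : ¬ 5 ^ 10 ∣ Nat.card G

end Cfsg.Agent.H777.M5
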