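import Cfsg.Agent.MFive.JData

/-!
# An element of order five of `Co0` normalizing the group `5^3` generated by `e 0`, `a`, `b` (helper777)

`a = e 1 * e 3 * e 5 * e 10 * e 11 * e 11`, `b = e 8 * e 11 * e 9 * e 11 * e 4 * e 10 * e 11 * e 10 * e 11`,
`h` = the element below. Relations (checked numerically): `h ^ 5 = 1`, `e 0`, `a`, `b` commute and have order five,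
`h (e 0) h⁻¹ = (e 0)^2 a b^2`, `h a h⁻¹ = (e 0)^4 b^3`, `h b h⁻¹ = (e 0) a b`; the centre is generated by `(e 0) a`
(trace `-1`, fixed rank four).
-/

set_option autoImplicit false
set_option maxRecDepth 100000

namespace Cfsg.Agent.H777.M5.CoMat

open Cfsg.Agent.SporadicStructure.Co0Matrix

/-- the element `h` (rows) -/
def rH : List (List ℤ) := [
  [0, 2, 0, -2, 2, 0, 2, 0, 0, -4, 0, 0, -2, 2, 0, 0, 0, 0, 0, 4, -2, 0, -2, 0],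
  [2, 0, -2, 0, 0, -2, 0, -2, 2, -2, 2, -2, 0, 0, 2, -2, -2, 2, 2, -2, 0, -2, 0, -2],
  [0, 2, -4, -2, -2, 0, -2, 0, 0, 0, 0, 0, -2, 2, 0, 0, 0, 0, 0, 0, 2, 0, 2, 4],
  [0, 2, 0, -2, 2, 0, 2, 4, 4, 0, 0, 0, 2, -2, 0, 0, 0, 0, 0, 0, 2, 0, 2, 0],
  [0, 2, 0, 2, -2, -4, 2, 0, 0, 0, 0, 0, -2, -2, 0, 0, 0, 0, 0, 0, 2, 4, -2, 0],
  [0, 2, 0, 2, 2, 0, -2, 0, 0, 0, -4, 0, -2, -2, 4, 0, 0, 0, 0, 0, -2, 0, 2, 0],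
  [0, 2, 0, 2, -2, 4, 2, 0, 0, 0, 0, 0, -2, -2, 0, 0, 0, 0, 0, 0, 2, -4, -2, 0],
  [-2, 0, -2, 0, 0, 2, 0, 2, -2, 2, 2, -2, 0, 0, 2, -2, 2, 2, 2, 2, 0, 2, 0, -2],
  [0, 2, 0, -2, 2, 0, 2, -4, -4, 0, 0, 0, 2, -2, 0, 0, 0, 0, 0, 0, 2, 0, 2, 0],
  [2, 0, 2, 0, 0, 2, 0, 2, -2, -2, 2, 2, 0, 0, 2, -2, -2, -2, 2, -2, 0, 2, 0, 2],
  [0, 2, 4, -2, -2, 0, -2, 0, 0, 0, 0, 0, -2, 2, 0, 0, 0, 0, 0, 0, 2, 0, 2, -4],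
  [0, 2, 0, -2, 2, 0, 2, 0, 0, 4, 0, 0, -2, 2, 0, 0, 0, 0, 0, -4, -2, 0, -2, 0],
  [-4, 2, 0, 2, -2, 0, 2, 0, 0, 0, 0, 0, 2, 2, 0, 0, -4, 0, 0, 0, -2, 0, 2, 0],
  [2, 0, 2, 0, 0, 2, 0, -2, 2, 2, -2, -2, 0, 0, -2, -2, -2, 2, 2, 2, 0, 2, 0, 2],
  [-2, 0, -2, 0, 0, 2, 0, -2, 2, -2, -2, 2, 0, 0, -2, -2, 2, -2, 2, -2, 0, 2, 0, -2],
  [4, 2, 0, 2, -2, 0, 2, 0, 0, 0, 0, 0, 2, 2, 0, 0, 4, 0, 0, 0, -2, 0, 2, 0],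
  [0, 2, 0, 2, 2, 0, -2, 0, 0, 0, 0, 4, 2, 2, 0, 0, 0, 4, 0, 0, 2, 0, -2, 0],
  [0, -2, 0, 2, 2, 0, 2, 0, 0, 0, 0, 0, -2, 2, 0, -4, 0, 0, -4, 0, 2, 0, 2, 0],
  [-2, 0, 2, 0, 0, -2, 0, 2, -2, -2, -2, -2, 0, 0, -2, -2, 2, 2, 2, -2, 0, -2, 0, 2],
  [-2, 0, 2, 0, 0, -2, 0, -2, 2, 2, 2, 2, 0, 0, 2, -2, 2, -2, 2, 2, 0, -2, 0, 2],
  [0, -2, 0, 2, 2, 0, 2, 0, 0, 0, 0, 0, -2, 2, 0, 4, 0, 0, 4, 0, 2, 0, 2, 0],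
  [2, 0, -2, 0, 0, -2, 0, 2, -2, 2, -2, 2, 0, 0, -2, -2, -2, -2, 2, 2, 0, -2, 0, -2],
  [0, 2, 0, 2, 2, 0, -2, 0, 0, 0, 0, -4, 2, 2, 0, 0, 0, -4, 0, 0, 2, 0, -2, 0],
  [0, 2, 0, 2, 2, 0, -2, 0, 0, 0, 4, 0, -2, -2, -4, 0, 0, 0, 0, 0, -2, 0, 2, 0]]

/-- the element `h` (columns) -/
def cH : List (List ℤ) := [
  [0, 2, 0, 0, 0, 0, 0, -2, 0, 2, 0, 0, -4, 2, -2, 4, 0, 0, -2, -2, 0, 2, 0, 0],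
  [2, 0, 2, 2, 2, 2, 2, 0, 2, 0, 2, 2, 2, 0, 0, 2, 2, -2, 0, 0, -2, 0, 2, 2],
  [0, -2, -4, 0, 0, 0, 0, -2, 0, 2, 4, 0, 0, 2, -2, 0, 0, 0, 2, 2, 0, -2, 0, 0],
  [-2, 0, -2, -2, 2, 2, 2, 0, -2, 0, -2, -2, 2, 0, 0, 2, 2, 2, 0, 0, 2, 0, 2, 2],
  [2, 0, -2, 2, -2, 2, -2, 0, 2, 0, -2, 2, -2, 0, 0, -2, 2, 2, 0, 0, 2, 0, 2, 2],
  [0, -2, 0, 0, -4, 0, 4, 2, 0, 2, 0, 0, 0, 2, 2, 0, 0, 0, -2, -2, 0, -2, 0, 0],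
  [2, 0, -2, 2, 2, -2, 2, 0, 2, 0, -2, 2, 2, 0, 0, 2, -2, 2, 0, 0, 2, 0, -2, -2],
  [0, -2, 0, 4, 0, 0, 0, 2, -4, 2, 0, 0, 0, -2, -2, 0, 0, 0, 2, -2, 0, 2, 0, 0],
  [0, 2, 0, 4, 0, 0, 0, -2, -4, -2, 0, 0, 0, 2, 2, 0, 0, 0, -2, 2, 0, -2, 0, 0],
  [-4, -2, 0, 0, 0, 0, 0, 2, 0, -2, 0, 4, 0, 2, -2, 0, 0, 0, -2, 2, 0, 2, 0, 0],
  [0, 2, 0, 0, 0, -4, 0, 2, 0, 2, 0, 0, 0, -2, -2, 0, 0, 0, -2, 2, 0, -2, 0, 4],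
  [0, -2, 0, 0, 0, 0, 0, -2, 0, 2, 0, 0, 0, -2, 2, 0, 4, 0, -2, 2, 0, 2, -4, 0],
  [-2, 0, -2, 2, -2, -2, -2, 0, 2, 0, -2, -2, 2, 0, 0, 2, 2, -2, 0, 0, -2, 0, 2, -2],
  [2, 0, 2, -2, -2, -2, -2, 0, -2, 0, 2, 2, 2, 0, 0, 2, 2, 2, 0, 0, 2, 0, 2, -2],
  [0, 2, 0, 0, 0, 4, 0, 2, 0, 2, 0, 0, 0, -2, -2, 0, 0, 0, -2, 2, 0, -2, 0, -4],
  [0, -2, 0, 0, 0, 0, 0, -2, 0, -2, 0, 0, 0, -2, -2, 0, 0, -4, -2, -2, 4, -2, 0, 0],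
  [0, -2, 0, 0, 0, 0, 0, 2, 0, -2, 0, 0, -4, -2, 2, 4, 0, 0, 2, 2, 0, -2, 0, 0],
  [0, 2, 0, 0, 0, 0, 0, 2, 0, -2, 0, 0, 0, 2, -2, 0, 4, 0, 2, -2, 0, -2, -4, 0],
  [0, 2, 0, 0, 0, 0, 0, 2, 0, 2, 0, 0, 0, 2, 2, 0, 0, -4, 2, 2, 4, 2, 0, 0],
  [4, -2, 0, 0, 0, 0, 0, 2, 0, -2, 0, -4, 0, 2, -2, 0, 0, 0, -2, 2, 0, 2, 0, 0],
  [-2, 0, 2, 2, 2, -2, 2, 0, 2, 0, 2, -2, -2, 0, 0, -2, 2, 2, 0, 0, 2, 0, 2, -2],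
  [0, -2, 0, 0, 4, 0, -4, 2, 0, 2, 0, 0, 0, 2, 2, 0, 0, 0, -2, -2, 0, -2, 0, 0],
  [-2, 0, 2, 2, -2, 2, -2, 0, 2, 0, 2, -2, 2, 0, 0, 2, -2, 2, 0, 0, 2, 0, -2, 2],
  [0, -2, 4, 0, 0, 0, 0, -2, 0, 2, -4, 0, 0, 2, -2, 0, 0, 0, 2, 2, 0, -2, 0, 0]]

theorem okH : Ok rH cH := Ok.of_bool (by decide +kernel)

end Cfsg.Agent.H777.M5.CoMat
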