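import Cfsg.Agent.H315.M5.Elim
import Cfsg.Agent.H158.Row5Psl
import Cfsg.Agent.H383.M5.RowPSU
import Cfsg.Agent.H131.MonFive
import Cfsg.Agent.H953.FiveOrth
import Cfsg.Agent.H332.M5.Exc

/-!
# Elimination: simple groups with 5-part `5^8` or `5^9` (helper777; rows by helper158, 383, 131, 953, 332, 315)
-/

set_option autoImplicit false

namespace Cfsg.Agent.H777.Elim5

open Cfsg

universe u

theorem rows : Cfsg.Agent.H315.M5.Rows5 where
  psl hn F _ _ := Cfsg.Agent.H158.Row5.row_psl hn F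
  psu hn _ _ _ hF := Cfsg.Agent.H383.M5.RowPSU.row_psu hn hF
  psp hm _ _ _ := Cfsg.Agent.H131.MonFive.row_psp hm
  oodd hm _ _ _ ho := Cfsg.Agent.H953.FiveOrth.row_oodd hm ho
  oplus hm _ _ _ := Cfsg.Agent.H953.FiveOrth.row_oplus hm
  ominus hm _ _ _ _ _ hab := Cfsg.Agent.H953.FiveOrth.row_ominus hm hab
  g2 := Cfsg.Agent.H332.M5.row_G2
  f4 := Cfsg.Agent.H332.M5.row_F4
  e6 := Cfsg.Agent.H332.M5.row_E6
  e7 := Cfsg.Agent.H332.M5.row_E7
  e8 := Cfsg.Agent.H332.M5.row_E8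
  te6 hq hF := Cfsg.Agent.H332.M5.row_twE6 hq hF
  td4 hq hF := Cfsg.Agent.H332.M5.row_twD4 hq hF
  tf4 _ hF := Cfsg.Agent.H332.M5.row_twF4 hF

/-- **Elimination.** -/
theorem elim5 {K : Type u} [Group K] [Finite K] [IsSimpleGroup K] (hV : Vn5 8 K ∨ Vn5 9 K) (hB : ¬ Big5 K) :
    Vn5 9 K ∧ Spor.IsoM K :=
  Cfsg.Agent.H315.M5.elim5_of rows hV hB

theorem big5_of_vn8 {K : Type u} [Group K] [Finite K] [IsSimpleGroup K] (hV : Vn5 8 K) : Big5 K := by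
  by_contra hB
  exact hV.2 (elim5 (Or.inl hV) hB).1.1

end Cfsg.Agent.H777.Elim5
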