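import Cfsg.Agent.H777.M5.Amb
import Cfsg.Agent.H777.M5.Elim
import Cfsg.Agent.H411.M5.Abel
import Cfsg.Agent.H771.M5.ExoGen
import Cfsg.Agent.MonsterP.Equiv
import Cfsg.Agent.H777.M5.Real
import Cfsg.Agent.H211.M5.VFn
import Cfsg.Agent.H768.M5.FnPG
import Cfsg.Agent.H738.M5.NotConj
import Cfsg.Agent.H96.M5X.Strong
import Cfsg.Agent.H771.M5.NotMemB

/-!
# S5230: assembly (helper777)
-/

set_option autoImplicit false

namespace Cfsg.Agent.H777.M5

open Cfsg Cfsg.FusionSystem Cfsg.Agent.MonsterX Cfsg.Agent.H777.Elim5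

universe u

/-- a simple group with Sylow 5-subgroup `PG` -/
theorem vn5_nine {K : Type u} [Group K] [Finite K] [Fact (Nat.Prime 5)] (T' : Sylow 5 K) (e : PG ≃* T') : Vn5 9 K := by
  have hc : Nat.card T' = 5 ^ 9 := by rw [← Nat.card_congr e.toEquiv, PG.card_PG]
  have h1 : (Nat.card K).factorization 5 = 9 := by
    have h2 := T'.card_eq_multiplicity
    rw [hc] at h2
    exact (Nat.pow_right_injective (by norm_num : 2 ≤ 5) h2).symm
  constructor
  · rw [Nat.prime_five.pow_dvd_iff_le_factorization Nat.card_pos.ne', h1]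
  · rw [Nat.prime_five.pow_dvd_iff_le_factorization Nat.card_pos.ne', h1]
    norm_num

theorem not_big5 {K : Type u} [Group K] [Finite K] [Fact (Nat.Prime 5)] (T' : Sylow 5 K) (e : PG ≃* T') : ¬ Big5 K := by
  rintro ⟨A, hA, hab, hc⟩
  obtain ⟨Q, hQ⟩ := hA.exists_le_sylow
  obtain ⟨e1⟩ : Nonempty (Q ≃* T') := ⟨Q.equiv T'⟩
  -- the image of `A` in `PG`
  let f : A →* PG := e.symm.toMonoidHom.comp (e1.toMonoidHom.comp (Subgroup.inclusion hQ))
  have hf : Function.Injective f :=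
    e.symm.injective.comp (e1.injective.comp (Subgroup.inclusion_injective hQ))
  have h1 := Cfsg.Agent.H411.M5.card_le_of_comm_PG f.range (by
    rintro _ ⟨x, rfl⟩ _ ⟨y, rfl⟩
    rw [← map_mul, ← map_mul]
    congr 1
    exact Subtype.ext (hab x x.2 y y.2))
  rw [← Nat.card_congr (MonoidHom.ofInjective hf).toEquiv] at h1
  have h2 := hc.trans h1
  norm_num at h2

/-- the recognition -/
theorem equiv_of_sylow {K : Type u} [Group K] [Finite K] [IsSimpleGroup K] [Fact (Nat.Prime 5)] (T' : Sylow 5 K)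
    (e : PG ≃* T') : Nonempty (K ≃* ↥InstData.M.G) := by
  obtain ⟨-, h⟩ := elim5 (Or.inr (vn5_nine T' e)) (not_big5 T' e)
  obtain ⟨e1⟩ := id h
  obtain ⟨e2⟩ := Cfsg.Agent.MonsterP.Equiv.equiv
  exact ⟨e1.trans e2⟩

/-- the centre of `S` -/
theorem x_mem_zpowers {G : Type} [Group G] [Finite G] (M : MX G) : ∀ c ∈ M.S, c ≠ 1 → (∀ s ∈ M.S, c * s = s * c) →
    M.x ∈ Subgroup.zpowers c := by
  rintro _ ⟨y, rfl⟩ hy hc
  have h1 : y ∈ Subgroup.center PG := by
    rw [Subgroup.mem_center_iff]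
    intro s
    apply M.f_injective
    rw [map_mul, map_mul]
    exact (hc (M.f s) M.mem_S).symm
  obtain ⟨hv, hi, hj⟩ := Cfsg.Agent.H411.M5.mem_center.1 h1
  have hw0 : M.w 0 = 1 := by
    have := M.w_mul 0 0
    rw [om_zero_left, mul_zero, ZMod.val_zero, pow_zero, mul_one, add_zero] at this
    exact mul_eq_left.1 this
  have hf : M.f y = M.x ^ y.c.val := by
    rw [MX.f_apply, hv, hi, hj, hw0, ZMod.val_zero, pow_zero, pow_zero, one_mul, one_mul, mul_one]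
  have hc0 : y.c ≠ 0 := by
    intro h0
    apply hy
    rw [hf, h0, ZMod.val_zero, pow_zero]
  have hcv : ∀ c : ZMod 5, c ≠ 0 → ∃ d : ZMod 5, c.val * d.val % 5 = 1 := by decide
  obtain ⟨d, hd⟩ := hcv _ hc0
  refine ⟨(d.val : ℤ), ?_⟩
  show M.f y ^ (d.val : ℤ) = M.x
  rw [hf, zpow_natCast, ← pow_mul, ← Nat.div_add_mod (y.c.val * d.val) 5, hd, pow_add, pow_mul,
    M.x_five, one_pow, one_mul, pow_one]

theorem s5230_of [Finite ↥InstData.M.G] (M : MX ↥InstData.M.G) (hsc : ∀ A, M.E.StronglyClosed A → A = ⊥ ∨ A = M.S)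
    (hnn : ¬ M.E.IsNormal M.S) (hV : M.F.IsFullyNormalized M.V) (hne : ∃ φ ∈ M.F.Hom M.V, φ ∉ M.E.Hom M.V)
    {P : Type u} [Group P] [Finite P] [Fact (Nat.Prime 5)] (T : Sylow 5 Spor.Monster)
    (e : P ≃* ↥(T : Subgroup Spor.Monster)) : ∃ F : FusionSystem (⊤ : Subgroup P), F.core = ⊥ ∧ F.IsExotic 5 := by
  obtain ⟨eM⟩ := Cfsg.Agent.MonsterP.Equiv.equiv
  have hfin : Finite Spor.Monster := Finite.of_equiv _ eM.symm.toEquiv
  let T' : Sylow 5 ↥InstData.M.G := Sylow.ofCard ((T : Subgroup Spor.Monster).map eM.toMonoidHom) (by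
    rw [← Nat.card_congr ((T : Subgroup Spor.Monster).equivMapOfInjective eM.toMonoidHom eM.injective).toEquiv,
      ← Nat.card_congr eM.toEquiv]
    exact T.card_eq_multiplicity)
  let e' : P ≃* ↥(T' : Subgroup ↥InstData.M.G) :=
    e.trans ((T : Subgroup Spor.Monster).equivMapOfInjective eM.toMonoidHom eM.injective)
  obtain ⟨ePG⟩ := Cfsg.Agent.H411.M5.exists_equiv_sylow M.toPData M.not_dvd T'
  refine Cfsg.Agent.H771.M5.exotic_of_sub M.T M.T_coe M.E
    (fun Q φ hφ => Cfsg.Agent.H777.Prune.prune_le Q hφ) ?_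
    (Cfsg.Agent.H777.Prune.prune_isSaturated M.S_isPGroup M.F_sat hV M.V_comm) hsc hnn M.x M.x_ne
    ?_ (x_mem_zpowers M) T' e' ?_
  · obtain ⟨φ, h1, h2⟩ := hne
    exact ⟨M.V, φ, h1, h2⟩
  · refine ⟨⟨0, 1, 0, 0⟩, ?_⟩
    have hw0 : M.w 0 = 1 := by
      have := M.w_mul 0 0
      rw [om_zero_left, mul_zero, ZMod.val_zero, pow_zero, mul_one, add_zero] at this
      exact mul_eq_left.1 this
    rw [MX.f_apply]
    show M.w 0 * M.x ^ (1 : ZMod 5).val * (M.a ^ (0 : ZMod 5).val * M.b ^ (0 : ZMod 5).val) = M.x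
    rw [hw0, ZMod.val_zero, ZMod.val_one, pow_zero, pow_zero, pow_one, one_mul, one_mul, mul_one]
  · rintro K _ _ _ T1 ⟨e1⟩
    exact equiv_of_sylow T1 ((ePG.trans e'.symm).trans e1)

/-- `V` is fully normalized. -/
theorem V_fn {G : Type} [Group G] [Finite G] (M : MX G) : M.F.IsFullyNormalized M.V :=
  Cfsg.Agent.H211.M5.V_fn_of M Cfsg.Agent.H411.M5.card_SN Cfsg.Agent.H768.M5.fn_pg
    (Cfsg.Agent.H738.M5.not_conj_SA M)

/-- **S5230**, given the data. -/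
theorem s5230_of_MX (M : MX ↥InstData.M.G) {P : Type u} [Group P] [Finite P] [Fact (Nat.Prime 5)]
    (T : Sylow 5 Spor.Monster) (e : P ≃* ↥(T : Subgroup Spor.Monster)) :
    ∃ F : FusionSystem (⊤ : Subgroup P), F.core = ⊥ ∧ F.IsExotic 5 := by
  have := finite_MG
  exact s5230_of M (fun A hA => Cfsg.Agent.H96.M5X.stronglyClosed_E M hA) (Cfsg.Agent.H96.M5X.not_isNormal M)
    (V_fn M) (Cfsg.Agent.H771.M5X.exists_not_mem M (V_fn M)) T e

end Cfsg.Agent.H777.M5
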